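import Mathlib
import Groth.Agent.FEtLib.FullCrit
import Groth.Agent.GeomConn.Scheme

/-!
# Connected geometric fibres and restriction of finite étale covers

A closed map with connected fibres lets clopens descend; clopens of base changes of covers descend along
proper morphisms with geometrically connected fibres.
-/

set_option autoImplicit false
set_option linter.style.haveILetI false

noncomputable section

open AlgebraicGeometry CategoryTheory CategoryTheory.Limits

namespace Groth.Agent.FEtConn

universe u

open FEtLib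

theorem preimage_image_clopen {α β : Type*} [TopologicalSpace α] {p : α → β}
    (hconn : ∀ b, IsPreconnected (p ⁻¹' {b})) {W : Set α} (hW : IsClopen W) : p ⁻¹' (p '' W) = W := by
  refine subset_antisymm ?_ (Set.subset_preimage_image _ _)
  rintro a ⟨w, hw, hwa⟩
  exact (hconn (p a)).subset_isClopen hW ⟨w, hwa, hw⟩ rfl

theorem connectedSpace_of_isClosedMap {α β : Type*} [TopologicalSpace α] [TopologicalSpace β]
    [ConnectedSpace β] (p : α → β) (hcl : IsClosedMap p) (hs : Function.Surjective p)
    (hconn : ∀ b, IsPreconnected (p ⁻¹' {b})) : ConnectedSpace α := by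
  refine { toPreconnectedSpace := preconnectedSpace_iff_clopen.2 fun W hW => ?_, toNonempty := hs.nonempty }
  by_cases hne : W.Nonempty
  · have h1 := preimage_image_clopen hconn hW
    have h2 := preimage_image_clopen hconn hW.compl
    have hc : (p '' W)ᶜ = p '' Wᶜ := by
      rw [← Set.preimage_eq_preimage hs, Set.preimage_compl, h1, h2]
    have h3 : IsClopen (p '' W) := ⟨hcl W hW.1, isClosed_compl_iff.mp (hc ▸ hcl _ hW.compl.1)⟩
    exact Or.inr (by rw [← h1, h3.eq_univ (hne.image p), Set.preimage_univ])
  · exact Or.inl (Set.not_nonempty_iff_eq_empty.mp hne)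

variable {X S : Scheme.{u}} (f : X ⟶ S)

/-- the fibre of `Z ×_S X → Z` at a geometric point is connected if the geometric fibre of `X` is -/
theorem isConnected_fibre {T : Scheme.{u}} (g : T ⟶ S) {Ω : Type u} [Field Ω]
    (ξ : Spec (CommRingCat.of Ω) ⟶ T) [ConnectedSpace ↥(pullback f (ξ ≫ g))] :
    _root_.IsConnected (pullback.fst g f ⁻¹' {pt ξ}) := by
  have sq := (IsPullback.of_hasPullback (pullback.fst g f) ξ).paste_horiz
    (IsPullback.of_hasPullback g f).flip
  let e := sq.isoPullback
  haveI : ConnectedSpace ↥(pullback (pullback.fst g f) ξ) :=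
    e.inv.homeomorph.connectedSpace_iff.mp inferInstance
  have hr : pullback.fst g f ⁻¹' {pt ξ} = Set.range (pullback.fst (pullback.fst g f) ξ) := by
    rw [Scheme.Pullback.range_fst, range_eq_singleton_pt]
  rw [hr]
  exact isConnected_range (Scheme.Hom.continuous _)

theorem surjective_of_connected_fibres
    (hfib : ∀ (Ω : Type u) [Field Ω] [IsAlgClosed Ω] (s : Spec (CommRingCat.of Ω) ⟶ S),
      ConnectedSpace ↥(pullback f s)) : Function.Surjective f := fun x => by
  obtain ⟨Ω, _, _, ξ, hξ⟩ := exists_geomPoint x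
  haveI := hfib Ω ξ
  obtain ⟨q⟩ : Nonempty ↥(pullback f ξ) := inferInstance
  refine ⟨pullback.fst f ξ q, ?_⟩
  have h : f (pullback.fst f ξ q) = ξ (pullback.snd f ξ q) := congr($(pullback.condition (f := f) (g := ξ)) q)
  rw [h, Subsingleton.elim (α := PrimeSpectrum Ω) (pullback.snd f ξ q) (IsLocalRing.closedPoint Ω)]
  exact hξ

theorem clopenDescend_of_connected_fibres [IsProper f] [Flat f] [LocallyOfFinitePresentation f]
    (hfib : ∀ (Ω : Type u) [Field Ω] [IsAlgClosed Ω] (s : Spec (CommRingCat.of Ω) ⟶ S),
      ConnectedSpace ↥(pullback f s)) : ClopenDescend f := by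
  intro Z W hW
  let p := pullback.fst Z.hom f
  haveI : UniversallyOpen p := UniversallyOpen.of_flat p
  refine ⟨p '' W, ⟨p.isClosedMap W hW.1, p.isOpenMap W hW.2⟩, preimage_image_clopen (fun z => ?_) hW⟩
  obtain ⟨Ω, _, _, ξ, rfl⟩ := exists_geomPoint z
  haveI := hfib Ω (ξ ≫ Z.hom)
  exact (isConnected_fibre f Z.hom ξ).isPreconnected

theorem full_faithful_of_connected_fibres [IsProper f] [Flat f] [LocallyOfFinitePresentation f]
    (hfib : ∀ (Ω : Type u) [Field Ω] [IsAlgClosed Ω] (s : Spec (CommRingCat.of Ω) ⟶ S),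
      ConnectedSpace ↥(pullback f s)) : (FEt.restrict f).Full ∧ (FEt.restrict f).Faithful :=
  full_faithful_restrict f
    (fun W _ ⟨w, hw⟩ => ⟨w, hw, surjective_of_connected_fibres f hfib w⟩)
    (clopenDescend_of_connected_fibres f hfib)

end Groth.Agent.FEtConn
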