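import Mathlib
import Groth.Agent.FEtConn.Basic
import Groth.Agent.WEtale.Olivier
import Groth.Agent.Hensel.Local

/-!
# Proper schemes over complete local rings: covers are determined on the closed fibre
-/

set_option autoImplicit false
set_option linter.style.haveILetI false

noncomputable section

open AlgebraicGeometry CategoryTheory CategoryTheory.Limits

namespace Groth.Agent.FEtConn

universe u

open FEtLib

variable (A : Type u) [CommRing A] [HenselianLocalRing A]

theorem existsUnique_closed_specializes_prime {B : Type u} [CommRing B] [Algebra A B] [Algebra.IsIntegral A B]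
    (P : PrimeSpectrum B) : ∃! n : PrimeSpectrum B, IsClosed {n} ∧ P ⤳ n := by
  haveI := WEtale.Olivier.isLocalRing_of_isIntegral (A := A) (R := B ⧸ P.asIdeal)
  obtain ⟨M, hM, hPM⟩ := P.asIdeal.exists_le_maximal P.2.ne_top
  refine ⟨⟨M, hM.isPrime⟩, ⟨(PrimeSpectrum.isClosed_singleton_iff_isMaximal _).mpr hM,
    (PrimeSpectrum.le_iff_specializes P ⟨M, hM.isPrime⟩).mp hPM⟩, ?_⟩
  rintro n ⟨hn, hPn⟩
  have hnmax := (PrimeSpectrum.isClosed_singleton_iff_isMaximal _).mp hn
  have key : ∀ N : Ideal B, N.IsMaximal → P.asIdeal ≤ N →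
      N = (IsLocalRing.maximalIdeal (B ⧸ P.asIdeal)).comap (Ideal.Quotient.mk P.asIdeal) := by
    intro N hN hle
    rcases Ideal.map_eq_top_or_isMaximal_of_surjective (Ideal.Quotient.mk P.asIdeal) Ideal.Quotient.mk_surjective hN with h | h
    · exfalso
      apply hN.ne_top
      have := congrArg (Ideal.comap (Ideal.Quotient.mk P.asIdeal)) h
      rwa [Ideal.comap_map_mk hle, Ideal.comap_top] at this
    · rw [← IsLocalRing.eq_maximalIdeal h, Ideal.comap_map_mk hle]
  exact PrimeSpectrum.ext ((key _ hnmax ((PrimeSpectrum.le_iff_specializes P n).mpr hPn)).trans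
    (key M hM hPM).symm)

theorem existsUnique_closed_specializes {Y : Scheme.{u}} (g : Y ⟶ Spec (CommRingCat.of A)) [IsIntegralHom g]
    (z : Y) : ∃! n : Y, IsClosed {n} ∧ z ⤳ n := by
  haveI : IsAffine Y := isAffine_of_isAffineHom g
  let φ := (Scheme.ΓSpecIso (CommRingCat.of A)).inv ≫ g.appTop
  algebraize [φ.hom]
  haveI : Algebra.IsIntegral A Γ(Y, ⊤) := Algebra.isIntegral_def.mpr
    (RingHom.IsIntegral.trans (Scheme.ΓSpecIso (CommRingCat.of A)).inv.hom g.appTop.hom
      (RingHom.isIntegral_of_surjective _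
        (ConcreteCategory.bijective_of_isIso (Scheme.ΓSpecIso (CommRingCat.of A)).inv).2)
      (IsIntegralHom.isIntegral_app g ⊤ (isAffineOpen_top _)))
  let h := Y.isoSpec.hom.homeomorph
  have hcl : ∀ n : Y, IsClosed {h n} ↔ IsClosed {n} := fun n => by
    rw [← Set.image_singleton]; exact h.isClosed_image
  have hsp : ∀ n : Y, h z ⤳ h n ↔ z ⤳ n := fun n => h.isEmbedding.isInducing.specializes_iff
  obtain ⟨n, ⟨h1, h2⟩, huniq⟩ := existsUnique_closed_specializes_prime A (B := Γ(Y, ⊤)) (h z)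
  obtain ⟨m, rfl⟩ := h.surjective n
  refine ⟨m, ⟨(hcl m).mp h1, (hsp m).mp h2⟩, ?_⟩
  rintro n' ⟨a, b⟩
  exact h.injective (huniq (h n') ⟨(hcl n').mpr a, (hsp n').mpr b⟩)

variable {A} [IsNoetherianRing A]

theorem clopenDescend_of_local {X : Scheme.{u}} (f : X ⟶ Spec (CommRingCat.of A)) [IsProper f]
    (hfib : ∀ (Ω : Type u) [Field Ω] [IsAlgClosed Ω] (s : Spec (CommRingCat.of Ω) ⟶ Spec (CommRingCat.of A)),
      pt s = IsLocalRing.closedPoint A → ConnectedSpace ↥(pullback f s)) : ClopenDescend f := by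
  intro Z W hW
  let p := pullback.fst Z.hom f
  haveI : IsNoetherianRing (CommRingCat.of A) := ‹_›
  haveI : IsLocallyNoetherian ((Functor.fromPUnit (Spec (CommRingCat.of A))).obj Z.right) :=
    inferInstanceAs (IsLocallyNoetherian (Spec (CommRingCat.of A)))
  haveI : CompactSpace ↥((Functor.fromPUnit (Spec (CommRingCat.of A))).obj Z.right) :=
    inferInstanceAs (CompactSpace (Spec (CommRingCat.of A)))
  haveI : IsLocallyNoetherian Z.left := LocallyOfFiniteType.isLocallyNoetherian Z.hom
  haveI : CompactSpace Z.left := QuasiCompact.compactSpace_of_compactSpace Z.hom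
  haveI : IsNoetherian Z.left := {}
  let c : Z.left → Z.left := fun z => (existsUnique_closed_specializes A Z.hom z).choose
  have hc : ∀ z, IsClosed {c z} ∧ z ⤳ c z := fun z =>
    (existsUnique_closed_specializes A Z.hom z).choose_spec.1
  have hcu : ∀ z n, IsClosed {n} → z ⤳ n → n = c z := fun z n h1 h2 =>
    (existsUnique_closed_specializes A Z.hom z).choose_spec.2 n ⟨h1, h2⟩
  refine ⟨{z | c z ∈ p '' W}, ?_, ?_⟩
  · refine isClopen_of_stable (genericPoints.finite TopologicalSpace.NoetherianSpace.finite_irreducibleComponents)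
      (fun y => ?_) (fun a b hab => ?_)
    · obtain ⟨C, hC, hyC⟩ : ∃ C ∈ irreducibleComponents Z.left, y ∈ C :=
        ⟨_, irreducibleComponent_mem_irreducibleComponents y, mem_irreducibleComponent⟩
      refine ⟨(genericPoints.ofComponent ⟨C, hC⟩).1, (genericPoints.ofComponent ⟨C, hC⟩).2, ?_⟩
      exact specializes_iff_mem_closure.mpr (by
        rw [show closure {(genericPoints.ofComponent ⟨C, hC⟩).1} = C from
          (genericPoints.isGenericPoint _).def.trans (congrArg Subtype.val (genericPoints.component_ofComponent ⟨C, hC⟩))]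
        exact hyC)
    · show c a ∈ p '' W ↔ c b ∈ p '' W
      rw [hcu a (c b) (hc b).1 (hab.trans (hc b).2)]
  · ext w
    show c (p w) ∈ p '' W ↔ w ∈ W
    obtain ⟨hn, hwn⟩ := hc (p w)
    obtain ⟨w', hww', hw'⟩ : ∃ w', w ⤳ w' ∧ p w' = c (p w) := by
      have h1 : c (p w) ∈ p '' closure {w} :=
        p.isClosedMap.closure_image_subset _ (by rw [Set.image_singleton]; exact hwn.mem_closure)
      obtain ⟨w', hw', he⟩ := h1
      exact ⟨w', specializes_iff_mem_closure.mpr hw', he⟩
    have hWw : w ∈ W ↔ w' ∈ W := ⟨fun h => hww'.mem_closed hW.1 h, fun h => hww'.mem_open hW.2 h⟩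
    obtain ⟨Ω, _, _, ξ, hξ⟩ := exists_geomPoint (c (p w))
    have hm : pt (ξ ≫ Z.hom) = IsLocalRing.closedPoint A := by
      have : IsClosed ({Z.hom (c (p w))} : Set (PrimeSpectrum A)) := by
        have := Z.hom.isClosedMap _ hn
        rwa [Set.image_singleton] at this
      rw [show pt (ξ ≫ Z.hom) = Z.hom (c (p w)) from (Scheme.Hom.comp_apply ξ Z.hom _).trans (congrArg Z.hom hξ)]
      exact IsLocalRing.isMaximal_iff A |>.mp ((PrimeSpectrum.isClosed_singleton_iff_isMaximal _).mp this) |>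
        PrimeSpectrum.ext
    haveI := hfib Ω (ξ ≫ Z.hom) hm
    have hF : _root_.IsPreconnected (p ⁻¹' {c (p w)}) := hξ ▸ (isConnected_fibre f Z.hom ξ).isPreconnected
    rw [hWw]
    exact ⟨fun ⟨v, hv, hve⟩ => hF.subset_isClopen hW ⟨v, hve, hv⟩ hw', fun h => ⟨w', h, hw'⟩⟩

theorem full_faithful_of_local {X : Scheme.{u}} (f : X ⟶ Spec (CommRingCat.of A)) [IsProper f] [Nonempty X]
    (hfib : ∀ (Ω : Type u) [Field Ω] [IsAlgClosed Ω] (s : Spec (CommRingCat.of Ω) ⟶ Spec (CommRingCat.of A)),
      pt s = IsLocalRing.closedPoint A → ConnectedSpace ↥(pullback f s)) :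
    (FEt.restrict f).Full ∧ (FEt.restrict f).Faithful := by
  refine full_faithful_restrict f (fun W hW hne => ?_) (clopenDescend_of_local f hfib)
  obtain ⟨w, hw⟩ := hne
  obtain ⟨x⟩ := ‹Nonempty X›
  refine ⟨IsLocalRing.closedPoint A, (IsLocalRing.specializes_closedPoint w).mem_closed hW.1 hw, ?_⟩
  exact (IsLocalRing.specializes_closedPoint (f x)).mem_closed f.isClosedMap.isClosed_range ⟨x, rfl⟩

omit [IsNoetherianRing A] in
/-- connectedness of the geometric closed fibres follows from that of one of them -/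
theorem connectedSpace_of_algClosure {X : Scheme.{u}} (f : X ⟶ Spec (CommRingCat.of A))
    (ξ : Spec (CommRingCat.of (AlgebraicClosure (IsLocalRing.ResidueField A))) ⟶ Spec (CommRingCat.of A))
    (hξ : ξ = Spec.map (CommRingCat.ofHom ((algebraMap (IsLocalRing.ResidueField A)
      (AlgebraicClosure (IsLocalRing.ResidueField A))).comp (IsLocalRing.residue A))))
    [ConnectedSpace ↥(pullback f ξ)]
    (Ω : Type u) [Field Ω] [IsAlgClosed Ω] (s : Spec (CommRingCat.of Ω) ⟶ Spec (CommRingCat.of A))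
    (hs : pt s = IsLocalRing.closedPoint A) : ConnectedSpace ↥(pullback f s) := by
  obtain ⟨φ, rfl⟩ : ∃ φ, Spec.map φ = s := ⟨Spec.preimage s, Spec.map_preimage s⟩
  haveI : IsLocalHom φ.hom := ⟨fun a ha => by
    by_contra h
    have hmem : a ∈ (IsLocalRing.closedPoint A).asIdeal := h
    rw [← hs] at hmem
    have : φ.hom a ∈ (IsLocalRing.closedPoint Ω).asIdeal := hmem
    exact this ha⟩
  let k := IsLocalRing.ResidueField A
  let ι : k →+* Ω := IsLocalRing.ResidueField.lift φ.hom
  letI : Algebra k Ω := ι.toAlgebra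
  let l : AlgebraicClosure k →ₐ[k] Ω := IsAlgClosed.lift
  letI : Algebra (AlgebraicClosure k) Ω := l.toRingHom.toAlgebra
  have he : Spec.map φ = Spec.map (CommRingCat.ofHom (algebraMap (AlgebraicClosure k) Ω)) ≫ ξ := by
    rw [hξ, ← Spec.map_comp]
    congr 1
    refine CommRingCat.hom_ext (RingHom.ext fun a => ?_)
    exact ((l.commutes (IsLocalRing.residue A a)).trans rfl).symm
  haveI := GeomConn.connectedSpace_bcTo_of_isAlgClosed (K := Ω) (pullback.snd f ξ)
  rw [he]
  exact (pullbackLeftPullbackSndIso f ξ _).hom.homeomorph.connectedSpace_iff.mp ‹_›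

end Groth.Agent.FEtConn
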