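import Mathlib
import Groth.Agent.FEtConn.Local
import Groth.Agent.NeronComp.Basic
import Groth.Agent.Hensel.Henselization
import Groth.Agent.FlatMorLib.SpecStalk
import Groth.Prelude.Def_FEt

/-!
# Restriction of covers to a dense open with connected punctured strict henselizations outside
-/

set_option autoImplicit false
set_option linter.style.haveILetI false

noncomputable section

open AlgebraicGeometry CategoryTheory CategoryTheory.Limits

namespace Groth.Agent.FEtConn

universe u

open FEtLib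

/-- a point in the closure of a compact open of a spectrum is a specialization of one of its points -/
theorem exists_specializes_of_isCompact {B : Type u} [CommRing B] {O : Set (PrimeSpectrum B)}
    (hO : IsOpen O) (hc : IsCompact O) {z : PrimeSpectrum B} (hz : z ∈ closure O) : ∃ w ∈ O, w ⤳ z := by
  obtain ⟨t, ht⟩ := (PrimeSpectrum.isCompact_isOpen_iff).mp ⟨hc, hO⟩
  by_contra H
  push Not at H
  have hs : ∀ f ∈ t, ∃ s : B, s ∉ z.asIdeal ∧ ∃ n : ℕ, s * f ^ n = 0 := by
    intro f hf
    by_contra hno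
    push Not at hno
    let M := z.asIdeal.primeCompl ⊔ Submonoid.powers f
    obtain ⟨P, hP, -, hdisj⟩ := Ideal.exists_le_prime_disjoint (⊥ : Ideal B) M (by
      rw [Set.disjoint_left]
      intro x hx hxM
      obtain ⟨s, hs, _, ⟨n, rfl⟩, rfl⟩ := Submonoid.mem_sup.mp hxM
      exact hno s hs n hx)
    have h1 : P ≤ z.asIdeal := fun x hx => by
      by_contra hxz
      exact Set.disjoint_left.mp hdisj hx (le_sup_left (b := Submonoid.powers f) hxz)
    have h2 : f ∉ P := fun hx =>
      Set.disjoint_left.mp hdisj hx (le_sup_right (a := z.asIdeal.primeCompl) (Submonoid.mem_powers f))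
    refine H ⟨P, hP⟩ ?_ ((PrimeSpectrum.le_iff_specializes (⟨P, hP⟩ : PrimeSpectrum B) z).mp h1)
    rw [← ht]
    exact fun hh => h2 (hh hf)
  choose s hs1 n hs2 using hs
  let g := ∏ f : t, s f.1 f.2
  have hg : g ∉ z.asIdeal := fun h => by
    obtain ⟨f, -, hf⟩ := (Ideal.IsPrime.prod_mem_iff (s := Finset.univ) (x := fun f : t => s f.1 f.2)).mp h
    exact hs1 f.1 f.2 hf
  obtain ⟨w, hwg, hwO⟩ := mem_closure_iff.mp hz (PrimeSpectrum.basicOpen g) (PrimeSpectrum.basicOpen g).2 hg
  rw [← ht] at hwO
  obtain ⟨f, hf, hfw⟩ := Set.not_subset.mp hwO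
  have h0 : g * f ^ n f hf = 0 := by
    obtain ⟨c, hc'⟩ := Finset.dvd_prod_of_mem (fun f : t => s f.1 f.2) (Finset.mem_univ ⟨f, hf⟩)
    show (∏ f : t, s f.1 f.2) * _ = 0
    rw [hc', mul_right_comm, hs2, zero_mul]
  rcases w.2.mem_or_mem (h0 ▸ w.asIdeal.zero_mem) with h | h
  · exact hwg h
  · exact hfw (w.2.mem_of_pow_mem _ h)

section Section

variable {R : Type u} [CommRing R] [HenselianLocalRing R] [IsSepClosed (IsLocalRing.ResidueField R)]

/-- finite étale over strictly henselian: sections through each point of the special fibre -/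
theorem exists_section_eq {T : Scheme.{u}} (g : T ⟶ Spec (CommRingCat.of R)) [IsFinite g] [Etale g] (q : T)
    (hq : g q = IsLocalRing.closedPoint R) :
    ∃ s : Spec (CommRingCat.of R) ⟶ T, s ≫ g = 𝟙 _ ∧ s (IsLocalRing.closedPoint R) = q := by
  have hfin : (g ⁻¹' {IsLocalRing.closedPoint R}).Finite := g.finite_preimage_singleton _
  let C := g ⁻¹' {IsLocalRing.closedPoint R} \ {q}
  have hC : IsClosed C := by
    rw [← Set.biUnion_of_singleton C]
    refine (hfin.sdiff).isClosed_biUnion fun y hy => ?_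
    refine closure_subset_iff_isClosed.mp fun y' hy' => ?_
    have hyy' : y ⤳ y' := specializes_iff_mem_closure.mpr hy'
    have hy'm : g y' = IsLocalRing.closedPoint R := by
      have h1 : g y' ∈ ({IsLocalRing.closedPoint R} : Set (PrimeSpectrum R)) :=
        (hyy'.map g.continuous).mem_closed (IsLocalRing.isClosed_singleton_closedPoint R) hy.1
      exact h1
    haveI : DiscreteTopology (g ⁻¹' {IsLocalRing.closedPoint R} : Set T) :=
      (g.isDiscrete_preimage_singleton (IsLocalRing.closedPoint R)).to_subtype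
    have hsp : (⟨y, hy.1⟩ : (g ⁻¹' {IsLocalRing.closedPoint R} : Set T)) ⤳ ⟨y', hy'm⟩ :=
      Topology.IsInducing.subtypeVal.specializes_iff.mp hyy'
    exact (congrArg Subtype.val hsp.eq).symm
  haveI : Smooth (Over.mk g).hom := inferInstanceAs (Smooth g)
  obtain ⟨x, hx⟩ := NeronComp.exists_section_mem_open (Over.mk g) hC.isOpen_compl
    (z := q) (fun h => h.2 rfl) hq
  refine ⟨x.left, Over.w x, ?_⟩
  by_contra hne
  refine hx ⟨?_, hne⟩
  exact congr($(Over.w x) (IsLocalRing.closedPoint R))

end Section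

variable {X : Scheme.{u}} (U : X.Opens) (hU : Dense (U : Set X))
  (hsh : ∀ x : X, x ∉ U → ∀ (R : Type u) [CommRing R] [IsLocalRing R] [Algebra (X.presheaf.stalk x) R]
      [IsLocalHom (algebraMap (X.presheaf.stalk x) R)] [Hensel.IsStrictHenselization (X.presheaf.stalk x) R],
      ConnectedSpace (FEt.puncturedSpec R : Scheme.{u}))

/-- every point of the closure of a clopen of the part over `U` specializes from a point of it -/
def SpecClosure : Prop :=
  ∀ (Z : FEt.Cat X) (A : Set Z.left), IsOpen A → A ⊆ (show Z.left ⟶ X from Z.hom) ⁻¹' (U : Set X) →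
    IsClopen (Subtype.val ⁻¹' A : Set ((show Z.left ⟶ X from Z.hom) ⁻¹' (U : Set X) : Set Z.left)) →
    ∀ z ∈ closure A, ∃ w ∈ A, w ⤳ z

include hU hsh in
theorem full_faithful_dense (hspec : SpecClosure U) :
    (FEt.restrict U.ι).Full ∧ (FEt.restrict U.ι).Faithful := by
  refine full_faithful_restrict U.ι (fun W hW hne => ?_) fun Z W hW => ?_
  · rw [Scheme.Opens.range_ι]
    exact hU.inter_open_nonempty W hW.2 hne
  let g : Z.left ⟶ X := Z.hom
  haveI : IsFinite g := Z.prop.1
  haveI : Etale g := Z.prop.2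
  let p := pullback.fst g U.ι
  haveI : IsOpenImmersion p := inferInstance
  have hr : Set.range p = g ⁻¹' (U : Set X) := by rw [Scheme.Pullback.range_fst, Scheme.Opens.range_ι]
  have hdense : Dense (g ⁻¹' (U : Set X)) := hU.preimage g.isOpenMap
  let A := p '' W
  let B := p '' Wᶜ
  have hA : IsOpen A := p.isOpenEmbedding.isOpenMap W hW.2
  have hB : IsOpen B := p.isOpenEmbedding.isOpenMap _ hW.compl.2
  have hAU : A ⊆ g ⁻¹' (U : Set X) := hr ▸ Set.image_subset_range _ _
  have hBU : B ⊆ g ⁻¹' (U : Set X) := hr ▸ Set.image_subset_range _ _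
  have hAB : A ∪ B = g ⁻¹' (U : Set X) := by rw [← Set.image_union, Set.union_compl_self, Set.image_univ, hr]
  have hdisj : Disjoint A B := (Set.disjoint_image_iff p.isOpenEmbedding.injective).mpr disjoint_compl_right
  have hclA : IsClopen (Subtype.val ⁻¹' A : Set (g ⁻¹' (U : Set X) : Set Z.left)) := by
    refine ⟨⟨?_⟩, hA.preimage continuous_subtype_val⟩
    have : (Subtype.val ⁻¹' A : Set (g ⁻¹' (U : Set X) : Set Z.left))ᶜ = Subtype.val ⁻¹' B := by
      ext ⟨y, hy⟩
      exact ⟨fun h => (hAB.symm ▸ hy : y ∈ A ∪ B).resolve_left h, fun h h' => hdisj.notMem_of_mem_left h' h⟩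
    rw [this]; exact hB.preimage continuous_subtype_val
  have hclB : IsClopen (Subtype.val ⁻¹' B : Set (g ⁻¹' (U : Set X) : Set Z.left)) := by
    convert hclA.compl using 1
    ext ⟨y, hy⟩
    exact ⟨fun h h' => hdisj.notMem_of_mem_left h' h, fun h => (hAB.symm ▸ hy : y ∈ A ∪ B).resolve_left h⟩
  have hcov : closure A ∪ closure B = Set.univ := by rw [← closure_union, hAB, hdense.closure_eq]
  have hempty : closure A ∩ closure B = ∅ := by
    by_contra hne
    obtain ⟨c, hc⟩ := Set.nonempty_iff_ne_empty.mpr hne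
    let C := closure A ∩ closure B
    have hC : IsClosed C := isClosed_closure.inter isClosed_closure
    have hCU : ∀ y ∈ C, g y ∉ U := by
      intro y hy hyU
      rcases (hAB.symm ▸ hyU : y ∈ A ∪ B) with h | h
      · obtain ⟨v, hvA, hvB⟩ := mem_closure_iff.mp hy.2 A hA h
        exact hdisj.notMem_of_mem_left hvA hvB
      · obtain ⟨v, hvB, hvA⟩ := mem_closure_iff.mp hy.1 B hB h
        exact hdisj.notMem_of_mem_left hvA hvB
    haveI : QuasiSober C := hC.isClosedEmbedding_subtypeVal.quasiSober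
    haveI : T0Space C := inferInstance
    let T := irreducibleComponent (⟨c, hc⟩ : C)
    let z : C := genericPoints.ofComponent ⟨T, irreducibleComponent_mem_irreducibleComponents _⟩ |>.1
    have hzmax : ∀ w ∈ C, w ⤳ (z : Z.left) → w = (z : Z.left) := by
      intro w hw hwz
      have hwz' : (⟨w, hw⟩ : C) ⤳ z := Topology.IsInducing.subtypeVal.specializes_iff.mp hwz
      have hzg : closure {z} ∈ irreducibleComponents C :=
        (genericPoints.ofComponent ⟨T, irreducibleComponent_mem_irreducibleComponents _⟩).2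
      have hsub : closure {z} ⊆ closure {(⟨w, hw⟩ : C)} :=
        closure_minimal (Set.singleton_subset_iff.mpr hwz'.mem_closure) isClosed_closure
      have heq : closure {(⟨w, hw⟩ : C)} ⊆ closure {z} := hzg.2 isIrreducible_singleton.closure hsub
      exact congrArg Subtype.val ((specializes_iff_mem_closure.mpr (heq (subset_closure rfl))).antisymm hwz').eq.symm
    let x := g z
    obtain ⟨R, _, _, _, _, hRsh⟩ := Hensel.exists_isStrictHenselization (X.presheaf.stalk x)
    haveI : HenselianLocalRing R := hRsh.henselian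
    haveI : IsSepClosed (IsLocalRing.ResidueField R) := hRsh.isSepClosure.sep_closed
    let b := Spec.map (CommRingCat.ofHom (algebraMap (X.presheaf.stalk x) R)) ≫ X.fromSpecStalk x
    have hb : b (IsLocalRing.closedPoint R) = x := by
      exact (Scheme.Hom.comp_apply _ _ _).trans
        ((congrArg (X.fromSpecStalk x) (IsLocalRing.comap_closedPoint _)).trans Scheme.fromSpecStalk_closedPoint)
    obtain ⟨q, hq1, hq2⟩ := Scheme.Pullback.exists_preimage_pullback (f := g) (g := b) (z : Z.left)
      (IsLocalRing.closedPoint R) hb.symm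
    obtain ⟨s, hs, hsq⟩ := exists_section_eq (pullback.snd g b) q hq2
    haveI : Module.Flat (X.presheaf.stalk x) R := Hensel.strictHenselization_flat
    haveI := FlatMorLib.flat_fromSpecStalk x
    haveI : Flat (Spec.map (CommRingCat.ofHom (algebraMap (X.presheaf.stalk x) R))) :=
      (HasRingHomProperty.Spec_iff (P := @Flat)).2 (RingHom.flat_algebraMap_iff.2 inferInstance)
    haveI : Flat b := inferInstance
    haveI : IsOpenImmersion s := by
      haveI : IsSplitMono s := IsSplitMono.mk' ⟨_, hs⟩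
      haveI : Etale (s ≫ pullback.snd g b) := by rw [hs]; infer_instance
      haveI : Etale (pullback.snd g b) := inferInstance
      haveI : Etale s := Etale.of_comp s (pullback.snd g b)
      exact IsOpenImmersion.of_flat_of_mono s
    let σ := s ≫ pullback.fst g b
    haveI : Flat σ := inferInstance
    have hσg : σ ≫ g = b := by
      show (s ≫ pullback.fst g b) ≫ g = b
      rw [Category.assoc, pullback.condition, reassoc_of% hs]
    have hσz : σ (IsLocalRing.closedPoint R) = (z : Z.left) := by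
      exact (Scheme.Hom.comp_apply _ _ _).trans ((congrArg (pullback.fst g b) hsq).trans hq1)
    let P : (Spec (CommRingCat.of R)).Opens := FEt.puncturedSpec R
    haveI : ConnectedSpace (P : Scheme.{u}) := hsh x (hCU _ z.2) R
    have hnb : ∀ p : Spec (CommRingCat.of R), σ p = (z : Z.left) → p = IsLocalRing.closedPoint R := by
      intro p hp
      have hgp : b p = x := by rw [← hσg, Scheme.Hom.comp_apply, hp]
      have hp0 : Spec.map (CommRingCat.ofHom (algebraMap (X.presheaf.stalk x) R)) p = IsLocalRing.closedPoint _ :=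
        (X.fromSpecStalk x).isEmbedding.injective ((Scheme.Hom.comp_apply _ _ _).symm.trans
          (hgp.trans Scheme.fromSpecStalk_closedPoint.symm))
      refine PrimeSpectrum.ext (le_antisymm (IsLocalRing.le_maximalIdeal p.2.ne_top) ?_)
      show IsLocalRing.maximalIdeal R ≤ p.asIdeal
      rw [← Hensel.strictHenselization_map_maximalIdeal (R := X.presheaf.stalk x) (S := R), Ideal.map_le_iff_le_comap]
      exact le_of_eq (congrArg PrimeSpectrum.asIdeal hp0).symm
    let τ : ↥P.toScheme → Z.left := fun p => σ (P.ι p)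
    have hτ : Continuous τ := σ.continuous.comp P.ι.continuous
    have hgen : ∀ w : Z.left, w ⤳ (z : Z.left) → w ≠ z → ∃ p, τ p = w := by
      intro w hw hne'
      obtain ⟨p, -, hp⟩ := Flat.generalizingMap σ (hσz.symm ▸ hw)
      have hpP : p ∈ P := fun h => hne' (hp ▸ (show p = IsLocalRing.closedPoint R from h) ▸ hσz)
      exact ⟨⟨p, hpP⟩, hp⟩
    have hsplit : ∀ p, τ p ∈ closure A ↔ τ p ∉ closure B := by
      intro p
      refine ⟨fun hA' hB' => ?_, fun h => ((hcov.symm ▸ trivial : τ p ∈ closure A ∪ closure B)).resolve_right h⟩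
      have hpz : τ p ⤳ (z : Z.left) :=
        hσz ▸ (IsLocalRing.specializes_closedPoint (P.ι p)).map σ.continuous
      exact p.2 (hnb _ (hzmax _ ⟨hA', hB'⟩ hpz))
    have hclop : IsClopen (τ ⁻¹' closure A) := by
      refine ⟨isClosed_closure.preimage hτ, ?_⟩
      have : τ ⁻¹' closure A = (τ ⁻¹' closure B)ᶜ := Set.ext hsplit
      rw [this]
      exact (isClosed_closure.preimage hτ).isOpen_compl
    obtain ⟨wA, hwA, hwAz⟩ := hspec Z A hA hAU hclA z z.2.1
    obtain ⟨wB, hwB, hwBz⟩ := hspec Z B hB hBU hclB z z.2.2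
    obtain ⟨pA, hpA⟩ := hgen wA hwAz (fun h => hCU _ z.2 (h ▸ hAU hwA))
    obtain ⟨pB, hpB⟩ := hgen wB hwBz (fun h => hCU _ z.2 (h ▸ hBU hwB))
    have huniv := hclop.eq_univ ⟨pA, show τ pA ∈ closure A from hpA ▸ subset_closure hwA⟩
    exact (hsplit pB).mp (huniv ▸ Set.mem_univ pB : pB ∈ τ ⁻¹' closure A) (hpB ▸ subset_closure hwB)
  refine ⟨closure A, ⟨isClosed_closure, ?_⟩, ?_⟩
  · have : closure A = (closure B)ᶜ := by
      ext y
      exact ⟨fun h h' => hempty.le ⟨h, h'⟩,
        fun h => (hcov.symm ▸ trivial : y ∈ closure A ∪ closure B).resolve_right h⟩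
    rw [this]; exact isClosed_closure.isOpen_compl
  · ext y
    refine ⟨fun h => ?_, fun h => subset_closure ⟨y, h, rfl⟩⟩
    by_contra hy
    exact hempty.le ⟨h, subset_closure ⟨y, hy, rfl⟩⟩

theorem specClosure_of_finite_components
    (hirr : ∀ V : X.Opens, IsCompact (V : Set X) → (irreducibleComponents ↥V).Finite) : SpecClosure U := by
  intro Z A hA hAU _ z hz
  let g : Z.left ⟶ X := Z.hom
  haveI : IsFinite g := Z.prop.1
  haveI : Etale g := Z.prop.2
  obtain ⟨V, hV, hxV, -⟩ := exists_isAffineOpen_mem_and_subset (x := g z) (U := ⊤) trivial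
  let G := g ⁻¹' (Subtype.val '' genericPoints (V : Set X))
  have hG : G.Finite := by
    refine Set.Finite.preimage' ((genericPoints.finite (hirr V hV.isCompact)).image _) fun b _ => ?_
    exact g.finite_preimage_singleton b
  haveI : QuasiSober (V : Set X) := V.2.isOpenEmbedding_subtypeVal.quasiSober
  have hgen : ∀ y ∈ A, g y ∈ V → ∃ w ∈ G ∩ A, w ⤳ y := by
    intro y hy hyV
    let γ := genericPoints.ofComponent (⟨irreducibleComponent (⟨g y, hyV⟩ : (V : Set X)),
      irreducibleComponent_mem_irreducibleComponents _⟩ : irreducibleComponents (V : Set X))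
    have hγ : (γ.1 : X) ⤳ g y := (fun h => h.map continuous_subtype_val) (specializes_iff_mem_closure.mpr (by
      rw [show closure {γ.1} = irreducibleComponent (⟨g y, hyV⟩ : (V : Set X)) from
        (genericPoints.isGenericPoint γ).def.trans (congrArg Subtype.val (genericPoints.component_ofComponent _))]
      exact mem_irreducibleComponent))
    obtain ⟨w, hw, hwγ⟩ := Flat.generalizingMap g hγ
    exact ⟨w, ⟨⟨γ.1, γ.2, hwγ.symm⟩, hw.mem_open hA hy⟩, hw⟩
  have hz' : z ∈ closure (G ∩ A) := by
    refine mem_closure_iff.mpr fun O hO hzO => ?_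
    obtain ⟨y, ⟨hyO, hyV⟩, hyA⟩ := mem_closure_iff.mp hz (O ∩ g ⁻¹' (V : Set X))
      (hO.inter (V.2.preimage g.continuous)) ⟨hzO, hxV⟩
    obtain ⟨w, hw, hwy⟩ := hgen y hyA hyV
    exact ⟨w, hwy.mem_open hO hyO, hw⟩
  rw [← Set.biUnion_of_singleton (G ∩ A), (hG.inter_of_left A).closure_biUnion] at hz'
  obtain ⟨w, hw, hwz⟩ := Set.mem_iUnion₂.mp hz'
  exact ⟨w, hw.2, specializes_iff_mem_closure.mpr hwz⟩

theorem specClosure_of_quasiCompact [QuasiCompact U.ι] : SpecClosure U := by
  intro Z A hA hAU hcl z hz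
  let g : Z.left ⟶ X := Z.hom
  haveI : IsFinite g := Z.prop.1
  obtain ⟨V, hV, hxV, -⟩ := exists_isAffineOpen_mem_and_subset (x := g z) (U := ⊤) trivial
  let V' := g ⁻¹ᵁ V
  have hV' : IsAffineOpen V' := hV.preimage g
  let K := g ⁻¹' ((U : Set X) ∩ V)
  have hK : IsCompact K := by
    have h1 : IsCompact ((U : Set X) ∩ V) := by
      have := (QuasiCompact.isCompact_preimage (f := U.ι) V V.2 hV.isCompact).image U.ι.continuous
      rwa [Set.image_preimage_eq_range_inter, Scheme.Opens.range_ι] at this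
    exact QuasiCompact.isCompact_preimage _ (U.2.inter V.2) h1
  have hAK : IsCompact (A ∩ g ⁻¹' (V : Set X)) := by
    have : A ∩ g ⁻¹' (V : Set X) = K ∩ closure A := by
      ext y
      refine ⟨fun h => ⟨⟨hAU h.1, h.2⟩, subset_closure h.1⟩, fun ⟨⟨hyU, hyV⟩, hy⟩ => ⟨?_, hyV⟩⟩
      obtain ⟨O', hO', he⟩ := isOpen_induced_iff.mp hcl.compl.2
      by_contra hyA
      have hyO : y ∈ O' := (Set.ext_iff.mp he ⟨y, hyU⟩).mpr hyA
      obtain ⟨v, ⟨hvO, hvU⟩, hvA⟩ := mem_closure_iff.mp hy (O' ∩ g ⁻¹' (U : Set X))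
        (hO'.inter (U.2.preimage g.continuous)) ⟨hyO, hyU⟩
      exact (Set.ext_iff.mp he ⟨v, hvU⟩).mp hvO hvA
    rw [this]; exact hK.inter_right isClosed_closure
  let h := hV'.fromSpec
  have hrange : Set.range h = g ⁻¹' (V : Set X) := hV'.range_fromSpec
  obtain ⟨z', hz'⟩ : z ∈ Set.range h := hrange ▸ hxV
  have hOc : IsCompact (h ⁻¹' A) := by
    rw [h.isOpenEmbedding.isInducing.isCompact_iff, Set.image_preimage_eq_inter_range, hrange]
    exact hAK
  obtain ⟨w, hw, hwz⟩ := exists_specializes_of_isCompact (hA.preimage h.continuous) hOc (z := z') (by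
    refine (Set.ext_iff.mp (h.isOpenEmbedding.isOpenMap.preimage_closure_eq_closure_preimage h.continuous A) z').mp ?_
    exact Set.mem_preimage.mpr (hz'.symm ▸ hz))
  exact ⟨h w, hw, hz' ▸ hwz.map h.continuous⟩

end Groth.Agent.FEtConn
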